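import Cfsg.Agent.H852.OI.Base
import Cfsg.Agent.NotCT.Orders
import Cfsg.Agent.S2085
import Cfsg.Agent.H713.Spor.MOf
import Cfsg.Agent.MonsterU.Uncond
import Cfsg.Agent.MonsterP.Equiv

/-!
# S3325, the row of the sporadic groups (helper852)
-/

set_option autoImplicit false

namespace Cfsg.Agent.H852.OI

open Cfsg Subgroup
open Cfsg.Agent.H323.OI

/-- no large prime power divides `n` -/
def Sm (n : ℕ) : Prop := (∀ r, r.Prime → 5 ≤ r → ¬ r ^ 12 ∣ n) ∧ ¬ 3 ^ 20 ∣ n

theorem mem_of_prime {r n : ℕ} (hr : r.Prime) (l : List ℕ) (hl : ∀ q ∈ l, q.Prime) (k : ℕ) (h : r ∣ n)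
    (hn : n ∣ l.prod ^ k) : r ∈ l := by
  have h1 : r ∣ l.prod := hr.dvd_of_dvd_pow (h.trans hn)
  rw [Prime.dvd_prod_iff hr.prime] at h1
  obtain ⟨q, hq, hd⟩ := h1
  rwa [(Nat.prime_dvd_prime_iff_eq hr (hl q hq)).1 hd]

theorem Sm.mk' (n : ℕ) (l : List ℕ) (k : ℕ) (hl : ∀ q ∈ l, q.Prime) (hn : n ∣ l.prod ^ k)
    (h : ∀ q ∈ l, 5 ≤ q → ¬ q ^ 12 ∣ n) (h3 : ¬ 3 ^ 20 ∣ n) : Sm n :=
  ⟨fun r hr h5 hd => h r (mem_of_prime hr l hl k ((dvd_pow_self r (by norm_num)).trans hd) hn) h5 hd, h3⟩

theorem Sm.false {n N : ℕ} (h : Sm N) (hn : n ∣ N) (hb : (∃ r, r.Prime ∧ 5 ≤ r ∧ r ^ 12 ∣ n) ∨ 3 ^ 20 ∣ n) :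
    False := by
  rcases hb with ⟨r, hr, h5, hd⟩ | hd
  · exact h.1 r hr h5 (hd.trans hn)
  · exact h.2 (hd.trans hn)

/-- a simple group with row data has an order divisible by a large prime power -/
theorem Sm.not_row {N : ℕ} (hN : Sm N) {F : Type} [Field F] [Fintype F] {n : ℕ} {c : Fin n → F} (s : Sp c)
    {S : Type} [Group S] (r : RowS c S) (h : Nat.card S = N) : False :=
  hN.false ((pom_dvd r.ker).trans (h ▸ Subgroup.card_subgroup_dvd_card r.φ.range)) (big s)

theorem sm_co1 : Sm (2 ^ 25 * 4157776806543360000) :=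
  Sm.mk' _ [2, 3, 5, 7, 11, 13, 23] 50 (by decide +kernel) (by decide +kernel) (by decide +kernel) (by decide +kernel)

theorem sm_b : Sm (2 * 4154781481226426191177580544000000) :=
  Sm.mk' _ [2, 3, 5, 7, 11, 13, 17, 19, 23, 31, 47] 50 (by decide +kernel) (by decide +kernel) (by decide +kernel)
    (by decide +kernel)

/-- every automorphism of the Monster is inner -/
theorem inner_m {S : Type} [Group S] (h : Spor.IsoM S) (α : MulAut S) : ∃ t, α = MulAut.conj t := by
  obtain ⟨e⟩ := h
  have h1 : Subsingleton (Out Spor.Monster) := (Nat.card_eq_one_iff_unique.1 Cfsg.Agent.S2085.result).1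
  set γ : MulAut Spor.Monster := (e.symm.trans α).trans e with hγ
  have h2 : (QuotientGroup.mk γ : Out Spor.Monster) = QuotientGroup.mk 1 := Subsingleton.elim _ _
  rw [QuotientGroup.eq, mul_one, inv_mem_iff] at h2
  obtain ⟨g, hg⟩ := h2
  refine ⟨e.symm g, ?_⟩
  ext x
  have h3 : γ (e x) = g * e x * g⁻¹ := by rw [← hg]; rfl
  have h4 : γ (e x) = e (α x) := by
    show e (α (e.symm (e x))) = _
    rw [e.symm_apply_apply]
  rw [MulAut.conj_apply]
  apply e.injective
  rw [← h4, h3, map_mul, map_mul, map_inv, e.apply_symm_apply]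

theorem card_cent_m {S : Type} [Group S] (h : Spor.IsoM S) {t : S} (ht : orderOf t = 2) :
    Sm (Nat.card ↥(centralizer ({t} : Set S))) := by
  obtain ⟨e⟩ := h
  obtain ⟨f⟩ := Cfsg.Agent.MonsterP.Equiv.equiv
  have h1 := H713.Spor.MOf.card_cent Cfsg.Agent.MonsterU.Uncond.all ((e.trans f) t)
    (by rw [MulEquiv.orderOf_eq, ht])
  have h2 : Nat.card ↥(centralizer ({t} : Set S)) = Nat.card ↥(centralizer ({(e.trans f) t} : Set _)) := by
    refine Nat.card_congr (((e.trans f).subgroupMap _).toEquiv.trans (Equiv.setCongr ?_))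
    ext x
    constructor
    · rintro ⟨y, hy, rfl⟩
      have h3 := congrArg (e.trans f) (mem_centralizer_singleton_iff.1 hy)
      rw [map_mul, map_mul] at h3
      exact mem_centralizer_singleton_iff.2 h3
    · intro h
      refine ⟨(e.trans f).symm x, mem_centralizer_singleton_iff.2 ?_, (e.trans f).apply_symm_apply x⟩
      apply (e.trans f).injective
      rw [map_mul, map_mul, MulEquiv.apply_symm_apply]
      exact mem_centralizer_singleton_iff.1 h
  rw [h2]
  simp only [List.mem_cons, List.not_mem_nil, or_false] at h1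
  rcases h1 with h1 | h1
  · rw [h1]; exact sm_co1
  · rw [h1]; exact sm_b

theorem not_m {F : Type} [Field F] [Fintype F] {n : ℕ} {c : Fin n → F} (s : Sp c) {S : Type} [Group S]
    [IsSimpleGroup S] (r : RowS c S) (h : Spor.IsoM S) : False := by
  obtain ⟨t, ht⟩ := inner_m h r.α
  have ht1 : t ≠ 1 := by
    rintro rfl
    exact r.a1 (by rw [ht, map_one])
  have hc : center S = ⊥ := by
    rcases (inferInstance : (center S).Normal).eq_bot_or_eq_top with h1 | h1
    · exact h1
    · exfalso
      apply r.a1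
      rw [ht]
      ext x
      have h2 : t ∈ center S := by rw [h1]; exact mem_top t
      rw [MulAut.conj_apply, ← mem_center_iff.1 h2 x, mul_inv_cancel_right]
      rfl
  have htt : t * t = 1 := by
    have h1 : t * t ∈ center S := by
      rw [mem_center_iff]
      intro x
      have h2 : (MulAut.conj (t * t)) x = x := by
        rw [map_mul, ← ht, r.aa]
        rfl
      rw [MulAut.conj_apply] at h2
      calc x * (t * t) = t * t * x * (t * t)⁻¹ * (t * t) := by rw [h2]
        _ = t * t * x := by group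
    rw [hc, mem_bot] at h1
    exact h1
  have ho : orderOf t = 2 := orderOf_eq_prime (by rw [pow_two, htt]) ht1
  have hle : r.φ.range ≤ centralizer ({t} : Set S) := by
    rintro _ ⟨m, rfl⟩
    rw [mem_centralizer_singleton_iff]
    have h1 := r.fix m
    rw [ht, MulAut.conj_apply] at h1
    calc r.φ m * t = t * r.φ m * t⁻¹ * t := by rw [h1]
      _ = t * r.φ m := by group
  exact (card_cent_m h ho).false ((pom_dvd r.ker).trans (Subgroup.card_dvd_of_le hle)) (big s)

/-- **Piece 7b.** -/
theorem pSpor : PSpor := by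
  intro F _ _ n c s S _ _ _ r hS
  rcases hS with h | h | h | h | h | h | h | h | h | h | h | h | h | h | h | h | h | h | h | h | h |
      h | h | h | h | h
  · exact (Sm.mk' 7920 [2, 3, 5, 11] 50 (by decide +kernel) (by decide +kernel) (by decide +kernel) (by decide +kernel)).not_row s r (NotCT.Orders.m11 h)
  · exact (Sm.mk' 95040 [2, 3, 5, 11] 50 (by decide +kernel) (by decide +kernel) (by decide +kernel) (by decide +kernel)).not_row s r (NotCT.Orders.m12 h)
  · exact (Sm.mk' 443520 [2, 3, 5, 7, 11] 50 (by decide +kernel) (by decide +kernel) (by decide +kernel) (by decide +kernel)).not_row s r (NotCT.Orders.m22 h)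
  · exact (Sm.mk' 10200960 [2, 3, 5, 7, 11, 23] 50 (by decide +kernel) (by decide +kernel) (by decide +kernel) (by decide +kernel)).not_row s r (NotCT.Orders.m23 h)
  · exact (Sm.mk' 244823040 [2, 3, 5, 7, 11, 23] 50 (by decide +kernel) (by decide +kernel) (by decide +kernel) (by decide +kernel)).not_row s r (NotCT.Orders.m24 h)
  · exact (Sm.mk' 175560 [2, 3, 5, 7, 11, 19] 50 (by decide +kernel) (by decide +kernel) (by decide +kernel) (by decide +kernel)).not_row s r (NotCT.Orders.j1 h)
  · exact (Sm.mk' 604800 [2, 3, 5, 7] 50 (by decide +kernel) (by decide +kernel) (by decide +kernel) (by decide +kernel)).not_row s r (NotCT.Orders.j2 h)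
  · exact (Sm.mk' 50232960 [2, 3, 5, 17, 19] 50 (by decide +kernel) (by decide +kernel) (by decide +kernel) (by decide +kernel)).not_row s r (NotCT.Orders.j3 h)
  · exact (Sm.mk' 86775571046077562880 [2, 3, 5, 7, 11, 23, 29, 31, 37, 43] 50 (by decide +kernel) (by decide +kernel) (by decide +kernel) (by decide +kernel)).not_row s r (NotCT.Orders.j4 h)
  · exact (Sm.mk' 4157776806543360000 [2, 3, 5, 7, 11, 13, 23] 50 (by decide +kernel) (by decide +kernel) (by decide +kernel) (by decide +kernel)).not_row s r (NotCT.Orders.co1 h)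
  · exact (Sm.mk' 42305421312000 [2, 3, 5, 7, 11, 23] 50 (by decide +kernel) (by decide +kernel) (by decide +kernel) (by decide +kernel)).not_row s r (NotCT.Orders.co2 h)
  · exact (Sm.mk' 495766656000 [2, 3, 5, 7, 11, 23] 50 (by decide +kernel) (by decide +kernel) (by decide +kernel) (by decide +kernel)).not_row s r (NotCT.Orders.co3 h)
  · exact (Sm.mk' 898128000 [2, 3, 5, 7, 11] 50 (by decide +kernel) (by decide +kernel) (by decide +kernel) (by decide +kernel)).not_row s r (NotCT.Orders.mcl h)
  · exact (Sm.mk' 44352000 [2, 3, 5, 7, 11] 50 (by decide +kernel) (by decide +kernel) (by decide +kernel) (by decide +kernel)).not_row s r (NotCT.Orders.hs h)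
  · exact (Sm.mk' 448345497600 [2, 3, 5, 7, 11, 13] 50 (by decide +kernel) (by decide +kernel) (by decide +kernel) (by decide +kernel)).not_row s r (NotCT.Orders.suz h)
  · exact (Sm.mk' 4030387200 [2, 3, 5, 7, 17] 50 (by decide +kernel) (by decide +kernel) (by decide +kernel) (by decide +kernel)).not_row s r (NotCT.Orders.he h)
  · exact (Sm.mk' 145926144000 [2, 3, 5, 7, 13, 29] 50 (by decide +kernel) (by decide +kernel) (by decide +kernel) (by decide +kernel)).not_row s r (NotCT.Orders.ru h)
  · exact (Sm.mk' 460815505920 [2, 3, 5, 7, 11, 19, 31] 50 (by decide +kernel) (by decide +kernel) (by decide +kernel) (by decide +kernel)).not_row s r (NotCT.Orders.on h)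
  · exact (Sm.mk' 51765179004000000 [2, 3, 5, 7, 11, 31, 37, 67] 50 (by decide +kernel) (by decide +kernel) (by decide +kernel) (by decide +kernel)).not_row s r (NotCT.Orders.ly h)
  · exact (Sm.mk' 64561751654400 [2, 3, 5, 7, 11, 13] 50 (by decide +kernel) (by decide +kernel) (by decide +kernel) (by decide +kernel)).not_row s r (NotCT.Orders.fi22 h)
  · exact (Sm.mk' 4089470473293004800 [2, 3, 5, 7, 11, 13, 17, 23] 50 (by decide +kernel) (by decide +kernel) (by decide +kernel) (by decide +kernel)).not_row s r (NotCT.Orders.fi23 h)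
  · exact (Sm.mk' 1255205709190661721292800 [2, 3, 5, 7, 11, 13, 17, 23, 29] 50 (by decide +kernel) (by decide +kernel) (by decide +kernel) (by decide +kernel)).not_row s r (NotCT.Orders.fi24 h)
  · exact (Sm.mk' 273030912000000 [2, 3, 5, 7, 11, 19] 50 (by decide +kernel) (by decide +kernel) (by decide +kernel) (by decide +kernel)).not_row s r (NotCT.Orders.hn h)
  · exact (Sm.mk' 90745943887872000 [2, 3, 5, 7, 13, 19, 31] 50 (by decide +kernel) (by decide +kernel) (by decide +kernel) (by decide +kernel)).not_row s r (NotCT.Orders.th h)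
  · exact (Sm.mk' 4154781481226426191177580544000000 [2, 3, 5, 7, 11, 13, 17, 19, 23, 31, 47] 50 (by decide +kernel) (by decide +kernel) (by decide +kernel) (by decide +kernel)).not_row s r (NotCT.Orders.b h)
  · exact not_m s r h

end Cfsg.Agent.H852.OI
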