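import Cfsg.Agent.H852.OI.Base
import Cfsg.Agent.H284.AltComp

/-!
# S3325, the row of the alternating groups (helper852)
-/

set_option autoImplicit false

namespace Cfsg.Agent.H852.OI

open Cfsg Subgroup
open Cfsg.Agent.H323.OI

theorem fx_eq {S : Type} [Group S] (α : MulAut S) : fx α = fixedSubgroup α := rfl

/-- **Piece 7a.** -/
theorem pAlt : PAlt := by
  intro F _ _ n c s S _ _ _ r hS
  obtain ⟨m, hm, ⟨e⟩⟩ := hS
  obtain ⟨k, l, hk, -, -, ⟨e'⟩, -⟩ := H284.AltComp.table hm e (x := r.α) r.aa r.a1 (A := r.φ.range.subgroupOf (fx r.α))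
    r.comp
  have hle : r.φ.range ≤ fx r.α := by
    rintro _ ⟨m, rfl⟩
    exact r.fix m
  have e2 : ↥r.φ.range ≃* ↥(alternatingGroup (Fin k)) := (subgroupOfEquivOfLe hle).symm.trans e'
  have hsimple : IsSimpleGroup ↥r.φ.range :=
    (MulEquiv.isSimpleGroup_congr e2).2 (alternatingGroup.isSimpleGroup (by rwa [Nat.card_eq_fintype_card,
      Fintype.card_fin]))
  exact (Cfsg.Agent.H173.OI.pName1 c s _ (range_equiv r.ker s hsimple)).1 ⟨k, hk, ⟨e2⟩⟩

end Cfsg.Agent.H852.OI
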